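import Cfsg.Agent.H622.KW.Iso
import Cfsg.Agent.H416.E8Iso
import Cfsg.Agent.H416.Arith2

/-!
# The row `E₈(q)` of S4243
-/

set_option autoImplicit false
set_option linter.unusedSectionVars false

open Subgroup

namespace Cfsg.Agent.H232.KW

open Cfsg.Agent.H146.KW Cfsg.Agent.H622.KW Cfsg.Agent.H416.Arith

universe u v

/-- A divisor of a prime power `|F|` -/
theorem not_dvd_card {F : Type*} [Field F] [Fintype F] {r s : ℕ} [CharP F r] (hr : r.Prime)
    (hs : s.Prime) (hsr : s ≠ r) : ¬ s ∣ Fintype.card F := by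
  have := Fact.mk hr
  obtain ⟨n, -, hn⟩ := FiniteField.card F r
  rw [hn]
  intro h
  exact hsr ((Nat.prime_dvd_prime_iff_eq hs hr).1 (hs.dvd_of_dvd_pow h))

/-- the torus orders are isolated -/
theorem iso_E8 {F : Type v} [Field F] [Fintype F] {q : ℕ} (hq : Fintype.card F = q) (hq2 : 2 ≤ q)
    (i : Fin 3) {t : ℕ} (ht : t.Prime) (h : t ∣ mm q i) :
    Iso ↥(Cfsg.Lie.chevE8.group F) t (mm q i) := by
  fin_cases i
  · have h0 := mm0 hq2
    refine Iso.of_cycCard ht (H129.CycCard.card_E8_15 hq (m := mm q 0) (by rw [h0]; ring) ht ?_)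
    have h1 : (t : ℤ) ∣ ((mm q 0 : ℕ) : ℤ) := Int.natCast_dvd_natCast.2 h
    rw [h0] at h1
    convert h1 using 1; ring
  · have h0 := mm1 hq2
    refine Iso.of_cycCard ht (H129.CycCard.card_E8_24 hq (m := mm q 1) (by rw [h0]; ring) ht ?_)
    have h1 : (t : ℤ) ∣ ((mm q 1 : ℕ) : ℤ) := Int.natCast_dvd_natCast.2 h
    rw [h0] at h1
    convert h1 using 1; ring
  · have h0 := mm2 hq2
    refine Iso.of_cycCard ht (H129.CycCard.card_E8_30 hq (m := mm q 2) (by rw [h0]; ring) ht ?_)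
    have h1 : (t : ℤ) ∣ ((mm q 2 : ℕ) : ℤ) := Int.natCast_dvd_natCast.2 h
    rw [h0] at h1
    convert h1 using 1; ring

/-- The row `E₈(q)`. -/
theorem noKW_e8 {G : Type u} [Group G] [Finite G] [IsSimpleGroup G] {F : Type v} [Field F]
    [Fintype F] (e : G ≃* ↥(Cfsg.Lie.chevE8.group F)) : NoKW G := by
  intro H hHs hc ht hK _
  obtain ⟨q, hq⟩ : ∃ q, Fintype.card F = q := ⟨_, rfl⟩
  have hq2 : 2 ≤ q := by rw [← hq]; exact Fintype.one_lt_card
  obtain ⟨r, hch⟩ := CharP.exists F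
  have hr : r.Prime := CharP.char_is_prime F r
  obtain ⟨s, hs, hsH, hsr, hs5⟩ := Cfsg.Agent.H622.KW.exists_prime (L := H) hc hr
  have hsq : ¬ s ∣ q := hq ▸ not_dvd_card (F := F) hr hs hsr
  have hs2 : s ≠ 2 := by omega
  have hcard : Nat.card G = N q := by rw [Nat.card_congr e.toEquiv, H416.E8Iso.card_E8 hq]
  have iso : ∀ (i : Fin 3) (t : ℕ), t.Prime → t ∣ mm q i → Iso G t (mm q i) := fun i t htp h =>
    (iso_E8 hq hq2 i htp h).of_mulEquiv e.symm
  have hsm : ∀ i : Fin 3, ¬ s ∣ mm q i := fun i h => (iso i s hs h).not_dvd hs hK ht hsH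
  have hN : PP q ∣ Nat.card G := by
    rw [hcard, PP]
    refine Nat.Coprime.mul_dvd_of_dvd_of_dvd ?_
      (Nat.Coprime.mul_dvd_of_dvd_of_dvd (cop_mm hq2 (by decide)) (mm_dvd_N hq2 0) (mm_dvd_N hq2 1))
      (mm_dvd_N hq2 2)
    exact Nat.Coprime.mul_left (cop_mm hq2 (by decide)) (cop_mm hq2 (by decide))
  have h1 := lt_sylow hK ht hs hsH hN (fun t htp htN => by
    rw [PP] at htN
    rcases (Nat.Prime.dvd_mul htp).1 htN with h | h
    · rcases (Nat.Prime.dvd_mul htp).1 h with h | h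
      · exact ⟨_, iso 0 t htp h, hsm 0⟩
      · exact ⟨_, iso 1 t htp h, hsm 1⟩
    · exact ⟨_, iso 2 t htp h, hsm 2⟩)
  rw [hcard] at h1
  have h2 : s ^ (N q).factorization s = tp s (N' q) := by
    change tp s (N q) = tp s (N' q)
    unfold N
    rw [tp_mul s (pow_ne_zero _ (by omega)) (N'_pos hq2).ne',
      tp_eq_one (fun h => hsq (hs.dvd_of_dvd_pow h)), one_mul]
  rw [h2] at h1
  have h3 := tp_N'_odd hs hs2 hq2 hsq
  have h4 := bound_odd hq2
  omega

theorem noKW_isoE8 {G : Type u} [Group G] [Finite G] [IsSimpleGroup G]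
    (h : Cfsg.Lie.IsoE8 G) : NoKW G := by
  obtain ⟨F, _, _, ⟨e⟩⟩ := h
  exact noKW_e8 e

end Cfsg.Agent.H232.KW
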