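import Cfsg.Agent.H416.Arith2

/-!
# Numerics for the exceptional rows of S4243
-/

set_option autoImplicit false
set_option linter.unusedSectionVars false

namespace Cfsg.Agent.H232.KW

open Cfsg.Agent.H416.Arith Cfsg.Agent.Lib.Zsigmondy

theorem exists_ord {t q : ℕ} (ht : t.Prime) (hq : 2 ≤ q) (htq : ¬ t ∣ q) :
    ∃ e : ℕ, 0 < e ∧ e < t ∧ ∀ n, t ∣ q ^ n - 1 ↔ e ∣ n := by
  have : Fact t.Prime := ⟨ht⟩
  have h1 : orderOf (q : ZMod t) ∣ t - 1 := orderOf_dvd_pred ht htq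
  have ht2 := ht.two_le
  refine ⟨orderOf (q : ZMod t), Nat.pos_of_dvd_of_pos h1 (by omega), ?_,
    fun n => dvd_pow_sub_one_iff (by omega) n⟩
  have := Nat.le_of_dvd (by omega) h1
  omega

/-- the `t`-part of a product of `q ^ d - 1` -/
theorem tp_prod_le {t q e : ℕ} (ht : t.Prime) (ht2 : t ≠ 2) (hq : 2 ≤ q) (htq : ¬ t ∣ q)
    (he : 0 < e) (h : ∀ n, t ∣ q ^ n - 1 ↔ e ∣ n) (S : Finset ℕ) (hS : ∀ d ∈ S, 0 < d) {B : ℕ}
    (hB : tp t (q ^ e - 1) ≤ B) :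
    tp t (∏ d ∈ S, (q ^ d - 1)) ≤ B ^ (S.filter (fun d => e ∣ d)).card * tp t (∏ d ∈ S, d) := by
  have h1 : tp t (∏ d ∈ S, (q ^ d - 1)) = ∏ d ∈ S, tp t (q ^ d - 1) :=
    tp_prod t S _ fun d hd => (pow_sub_one_pos hq (hS d hd)).ne'
  have h2 : ∀ d ∈ S, tp t (q ^ d - 1) ≤ (if e ∣ d then B else 1) * tp t d := by
    intro d hd
    split_ifs with hed
    · exact (tp_lte ht ht2 hq htq he h (hS d hd) hed).trans (Nat.mul_le_mul_right _ hB)
    · rw [tp_eq_one fun h3 => hed ((h d).1 h3), one_mul]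
      exact tp_pos ht d
  rw [h1]
  calc ∏ d ∈ S, tp t (q ^ d - 1) ≤ ∏ d ∈ S, ((if e ∣ d then B else 1) * tp t d) :=
        Finset.prod_le_prod' h2
    _ = (∏ d ∈ S, (if e ∣ d then B else 1)) * ∏ d ∈ S, tp t d := Finset.prod_mul_distrib
    _ = _ := by
        rw [Finset.prod_ite, Finset.prod_const, Finset.prod_const_one, mul_one,
          ← tp_prod t S (fun d => d) fun d hd => (hS d hd).ne']

/-- the degrees of `E₇` -/
def d7 : Finset ℕ := {2, 6, 8, 10, 12, 14, 18}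

theorem d7_pos : ∀ d ∈ d7, 0 < d := by decide

theorem prod_d7 : ∏ d ∈ d7, d = 2903040 := by decide +kernel

theorem prod_d7' (q : ℕ) : ∏ d ∈ d7, (q ^ d - 1) = (q ^ 2 - 1) * (q ^ 6 - 1) * (q ^ 8 - 1) *
    (q ^ 10 - 1) * (q ^ 12 - 1) * (q ^ 14 - 1) * (q ^ 18 - 1) := by
  unfold d7
  repeat rw [Finset.prod_insert (by decide)]
  rw [Finset.prod_singleton]
  ring

theorem tp_weyl7 {t : ℕ} (ht : t.Prime) (ht2 : t ≠ 2) : tp t 2903040 ≤ 81 := by
  by_cases h3 : t = 3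
  · subst h3
    exact tp_le_of_not_dvd (b := 4) ht (by norm_num) (by norm_num)
  by_cases h5 : t = 5
  · subst h5
    exact (tp_le_of_not_dvd (b := 1) ht (by norm_num) (by norm_num)).trans (by norm_num)
  by_cases h7 : t = 7
  · subst h7
    exact (tp_le_of_not_dvd (b := 1) ht (by norm_num) (by norm_num)).trans (by norm_num)
  rw [tp_eq_one]
  · norm_num
  · intro h
    rw [show (2903040 : ℕ) = 2 ^ 10 * 3 ^ 4 * 5 * 7 by norm_num] at h
    rcases (Nat.Prime.dvd_mul ht).1 h with h | h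
    · rcases (Nat.Prime.dvd_mul ht).1 h with h | h
      · rcases (Nat.Prime.dvd_mul ht).1 h with h | h
        · exact ht2 ((Nat.prime_dvd_prime_iff_eq ht Nat.prime_two).1 (ht.dvd_of_dvd_pow h))
        · exact h3 ((Nat.prime_dvd_prime_iff_eq ht Nat.prime_three).1 (ht.dvd_of_dvd_pow h))
      · exact h5 ((Nat.prime_dvd_prime_iff_eq ht Nat.prime_five).1 h)
    · exact h7 ((Nat.prime_dvd_prime_iff_eq ht (by norm_num)).1 h)

theorem tp_weyl7' {t : ℕ} (ht : t.Prime) (ht5 : 5 ≤ t) : tp t 2903040 ≤ 7 := by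
  by_cases h5 : t = 5
  · subst h5
    exact (tp_le_of_not_dvd (b := 1) ht (by norm_num) (by norm_num)).trans (by norm_num)
  by_cases h7 : t = 7
  · subst h7
    exact (tp_le_of_not_dvd (b := 1) ht (by norm_num) (by norm_num)).trans (by norm_num)
  rw [tp_eq_one]
  · norm_num
  · intro h
    rw [show (2903040 : ℕ) = 2 ^ 10 * 3 ^ 4 * 5 * 7 by norm_num] at h
    rcases (Nat.Prime.dvd_mul ht).1 h with h | h
    · rcases (Nat.Prime.dvd_mul ht).1 h with h | h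
      · rcases (Nat.Prime.dvd_mul ht).1 h with h | h
        · have := (Nat.prime_dvd_prime_iff_eq ht Nat.prime_two).1 (ht.dvd_of_dvd_pow h)
          omega
        · have := (Nat.prime_dvd_prime_iff_eq ht Nat.prime_three).1 (ht.dvd_of_dvd_pow h)
          omega
      · exact h5 ((Nat.prime_dvd_prime_iff_eq ht Nat.prime_five).1 h)
    · exact h7 ((Nat.prime_dvd_prime_iff_eq ht (by norm_num)).1 h)

/-- `e = 1` -/
theorem tp7_one {t q : ℕ} (ht : t.Prime) (ht2 : t ≠ 2) (hq : 2 ≤ q) (h : t ∣ q - 1) :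
    tp t (∏ d ∈ d7, (q ^ d - 1)) ≤ 81 * (q - 1) ^ 7 := by
  have htq : ¬ t ∣ q := fun h1 => by
    have h2 := Nat.dvd_sub h1 h
    rw [show q - (q - 1) = 1 by omega] at h2
    exact ht.one_lt.ne' (Nat.dvd_one.1 h2)
  obtain ⟨e, he, -, hn⟩ := exists_ord ht hq htq
  have he1 : e = 1 := Nat.dvd_one.1 ((hn 1).1 (by rwa [pow_one]))
  subst he1
  have h1 : tp t (q ^ 1 - 1) ≤ q - 1 := by
    rw [pow_one]; exact Nat.le_of_dvd (by omega) (tp_dvd _ _)
  refine (tp_prod_le ht ht2 hq htq he hn d7 d7_pos h1).trans ?_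
  rw [prod_d7, mul_comm]
  exact Nat.mul_le_mul (tp_weyl7 ht ht2) (Nat.pow_le_pow_right (by omega) (by decide))

/-- `e = 2` -/
theorem tp7_two {t q B W : ℕ} (ht : t.Prime) (ht2 : t ≠ 2) (hq : 2 ≤ q) (h : t ∣ q + 1)
    (hB : tp t (q + 1) ≤ B) (hB0 : 0 < B) (hW : tp t 2903040 ≤ W) :
    tp t (∏ d ∈ d7, (q ^ d - 1)) ≤ W * B ^ 7 := by
  have htq : ¬ t ∣ q := fun h1 => by
    have h2 := Nat.dvd_sub h h1
    rw [show q + 1 - q = 1 by omega] at h2
    exact ht.one_lt.ne' (Nat.dvd_one.1 h2)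
  have ht1 : ¬ t ∣ q - 1 := fun h1 => by
    have h2 := Nat.dvd_sub h h1
    rw [show q + 1 - (q - 1) = 2 by omega] at h2
    exact ht2 ((Nat.prime_dvd_prime_iff_eq ht Nat.prime_two).1 h2)
  obtain ⟨e, he, -, hn⟩ := exists_ord ht hq htq
  have hsq : q ^ 2 - 1 = (q + 1) * (q - 1) := by
    have := Nat.sq_sub_sq q 1
    rwa [one_pow] at this
  have he2 : e ∣ 2 := (hn 2).1 (hsq ▸ h.mul_right _)
  have he1 : e = 2 := by
    rcases (Nat.dvd_prime Nat.prime_two).1 he2 with h1 | h1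
    · exact absurd ((hn 1).2 (by rw [h1])) (by rwa [pow_one])
    · exact h1
  subst he1
  have h1 : tp t (q ^ 2 - 1) ≤ B := by
    rw [hsq, tp_mul t (by omega) (by omega), tp_eq_one ht1, mul_one]
    exact hB
  refine (tp_prod_le ht ht2 hq htq he hn d7 d7_pos h1).trans ?_
  rw [prod_d7, mul_comm]
  exact Nat.mul_le_mul hW (Nat.pow_le_pow_right hB0 (by decide))

/-- any `e` -/
theorem tp7_all {t q : ℕ} (ht : t.Prime) (ht5 : 5 ≤ t) (hq : 2 ≤ q) (htq : ¬ t ∣ q) :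
    tp t (∏ d ∈ d7, (q ^ d - 1)) ≤ 7 * (q + 1) ^ 7 := by
  obtain ⟨e, he, -, hn⟩ := exists_ord ht hq htq
  refine (tp_prod_le ht (by omega) hq htq he hn d7 d7_pos (tp_order ht hq he hn)).trans ?_
  rw [prod_d7, mul_comm, ← pow_mul]
  refine Nat.mul_le_mul (tp_weyl7' ht ht5) (Nat.pow_le_pow_right (by omega) ?_)
  by_cases h30 : e ≤ 18
  · have key : ∀ e ≤ 18, e.totient * (d7.filter (fun d => e ∣ d)).card ≤ 7 := by decide +kernel
    exact key e h30
  · have : d7.filter (fun d => e ∣ d) = ∅ := by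
      rw [Finset.filter_eq_empty_iff]
      intro d hd hed
      have h4 : ∀ d ∈ d7, d ≤ 18 := by decide
      have h4' := h4 d hd
      have := Nat.le_of_dvd (d7_pos d hd) hed
      omega
    rw [this]; simp

end Cfsg.Agent.H232.KW
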