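import Cfsg.Agent.H232.KW.SzRee
import Cfsg.Agent.H488.PsuTwo
import Cfsg.Agent.HKS.UniGoalOf
import Cfsg.Agent.H724.UThree
import Cfsg.Agent.H398.FPR.PsuThree
import Cfsg.Agent.H786.KW.PrimesEven

/-!
# The row `PSU₃(q)` of S4243
-/

set_option autoImplicit false
set_option linter.unusedSectionVars false

open Subgroup MulAction
open scoped Pointwise

namespace Cfsg.Agent.H232.KW

open Cfsg.Agent.H146.KW

universe u

section TI

variable {T : Type*} [Group T] [Finite T] {r : ℕ} [hr : Fact r.Prime]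

/-- An `r`-element normalising a Sylow `r`-subgroup lies in it. -/
theorem mem_of_smul_eq {P Q : Sylow r T} {x : T} (hx : x ∈ P) (h : x • Q = Q) : x ∈ Q := by
  have h1 : x ∈ Subgroup.normalizer ((Q : Subgroup T) : Set T) :=
    Sylow.smul_eq_iff_mem_normalizer.1 h
  have h2 : IsPGroup r (Subgroup.zpowers x) :=
    P.isPGroup'.to_le ((Subgroup.zpowers_le).2 hx)
  have h3 : IsPGroup r ((Q : Subgroup T) ⊔ Subgroup.zpowers x : Subgroup T) :=
    IsPGroup.to_sup_of_normal_left' Q.isPGroup' h2 ((Subgroup.zpowers_le).2 h1)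
  have h4 := Q.is_maximal' h3 le_sup_left
  have h5 : x ∈ ((Q : Subgroup T) ⊔ Subgroup.zpowers x : Subgroup T) :=
    (le_sup_right : Subgroup.zpowers x ≤ _) (Subgroup.mem_zpowers x)
  rw [h4] at h5
  exact h5

/-- The action on the Sylow `r`-subgroups of a group with trivially intersecting Sylow
`r`-subgroups, when there are `|P| + 1` of them. -/
theorem ssplit (hTI : ∀ P Q : Sylow r T, P ≠ Q → (P : Subgroup T) ⊓ Q = ⊥)
    (hcard : ∀ P : Sylow r T, Nat.card (Sylow r T) = Nat.card P + 1)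
    (h3 : 2 < Nat.card (Sylow r T)) :
    HKS.SSplit (fun P : Sylow r T => (P : Subgroup T)) := by
  classical
  have hfree : ∀ {a b : Sylow r T} {x : T}, b ≠ a → x ∈ a → x • b = b → x = 1 := by
    intro a b x hab hx hxb
    have h1 := mem_of_smul_eq hx hxb
    have h2 : x ∈ ((a : Subgroup T) ⊓ b : Subgroup T) := ⟨hx, h1⟩
    rw [hTI a b hab.symm] at h2
    exact h2
  have hfix : ∀ {a : Sylow r T} {x : T}, x ∈ a → x • a = a := fun {a x} hx =>
    Sylow.smul_eq_iff_mem_normalizer.2 (Subgroup.le_normalizer hx)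
  refine
    { fix := hfix
      conj := fun g {a x} hx => mem_smul_sylow.mpr ⟨x, hx, rfl⟩
      trans := ?_
      free := hfree
      nil := fun a => a.isPGroup'.isNilpotent
      three := HKS.SSplit.three_of_card h3 }
  intro a b c hba hca
  -- the map `x ↦ x • b` from `a` to `Ω ∖ {a}` is injective, hence bijective
  let f : ↥(a : Subgroup T) → {d : Sylow r T // d ≠ a} := fun x => ⟨(x : T) • b, by
    intro h
    apply hba
    have h1 : (x : T) • a = a := hfix x.2
    exact smul_left_cancel (x : T) (h.trans h1.symm)⟩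
  have hf : Function.Injective f := by
    intro x y hxy
    have h1 : (x : T) • b = (y : T) • b := congrArg Subtype.val hxy
    have h2 : ((y : T)⁻¹ * x) • b = b := by rw [mul_smul, h1, inv_smul_smul]
    have h4 := hfree hba (a.mul_mem (a.inv_mem y.2) x.2) h2
    exact Subtype.ext (inv_mul_eq_one.1 h4).symm
  have hc1 : Nat.card {d : Sylow r T // d ≠ a} = Nat.card a := by
    have := Fintype.ofFinite (Sylow r T)
    have h1 := hcard a
    have h2 : Nat.card {d : Sylow r T // d ≠ a} = Nat.card (Sylow r T) - 1 := by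
      rw [Nat.card_eq_fintype_card, Nat.card_eq_fintype_card, Fintype.card_subtype_compl,
        Fintype.card_subtype_eq]
    omega
  have hfb : Function.Bijective f :=
    (Nat.bijective_iff_injective_and_card f).2 ⟨hf, hc1.symm⟩
  obtain ⟨x, hx⟩ := hfb.2 ⟨c, hca⟩
  exact ⟨x, x.2, congrArg Subtype.val hx⟩

end TI

section PSU

variable {T : Type u} [Group T] [Finite T] [hs : IsSimpleGroup T] {F : Type} [Field F] [Fintype F]
  {q : ℕ} {r : ℕ} [hr : Fact r.Prime] [CharP F r]

theorem card_le_of_commute (hF : Fintype.card F = q ^ 2) (hq : 3 ≤ q) (hodd : Odd q)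
    (e : T ≃* Cfsg.PSU 3 F q) {p : ℕ} (hp : p.Prime) (hpr : p ≠ r) {z : T} (hz : orderOf z = p)
    {R : Subgroup T} (hR : IsPGroup r R) (hRz : ∀ u ∈ R, z * u = u * z) : Nat.card R ≤ q := by
  classical
  have hfp := Fact.mk hp
  have hz1 : z ≠ 1 := by
    rintro rfl
    rw [orderOf_one] at hz
    exact hp.one_lt.ne hz
  obtain ⟨f, E, hf, hE0, hEQ, hpE, hT⟩ := H488.PsuTwo.exists_num (p := r) hF (by omega) e
  have hti := H488.PsuTwo.ti (p := r) hF e
  obtain ⟨hPc, hN, hbot⟩ := H488.PsuTwo.card_sylow (p := r) hF (by omega) e hs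
  have hq3 : 3 ≤ q ^ 3 := hq.trans (Nat.le_self_pow (by norm_num) q)
  have hSS := ssplit hti (fun P => by rw [hN, hPc]) (by rw [hN]; omega)
  by_cases hR1 : R = ⊥
  · rw [hR1, Subgroup.card_bot]; omega
  obtain ⟨a, ha⟩ := hR.exists_le_sylow
  obtain ⟨⟨u, huR⟩, hu1⟩ := (Subgroup.ne_bot_iff_exists_ne_one).1 hR1
  have hu1' : u ≠ 1 := fun h => hu1 (Subtype.ext h)
  have hza : z • a = a := by
    by_contra hne
    have h1 : u ∈ (((z • a : Sylow r T) : Subgroup T) ⊓ a : Subgroup T) := by
      refine ⟨mem_smul_sylow.mpr ⟨u, ha huR, ?_⟩, ha huR⟩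
      rw [hRz u huR, mul_inv_cancel_right]
    rw [hti _ _ hne] at h1
    exact hu1' h1
  -- a second fixed point
  obtain ⟨b, hba, hzb⟩ : ∃ b : Sylow r T, b ≠ a ∧ z • b = b := by
    have hpg : IsPGroup p (Subgroup.zpowers z) :=
      IsPGroup.of_card (n := 1) (by rw [Nat.card_zpowers, hz, pow_one])
    have h1 := hpg.card_modEq_card_fixedPoints (Sylow r T)
    by_contra hcon
    push Not at hcon
    have h2 : fixedPoints (Subgroup.zpowers z) (Sylow r T) = {a} := by
      ext b
      rw [Set.mem_singleton_iff, mem_fixedPoints]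
      constructor
      · intro h
        by_contra hba
        exact hcon b hba (h ⟨z, Subgroup.mem_zpowers z⟩)
      · rintro rfl ⟨y, hy⟩
        obtain ⟨n, rfl⟩ := Subgroup.mem_zpowers_iff.1 hy
        have h3 : z ∈ stabilizer T b := hza
        exact (stabilizer T b).zpow_mem h3 n
    rw [h2, hN, Nat.card_eq_fintype_card, Set.card_singleton] at h1
    have h4 : p ∣ q ^ 3 := by
      have := (Nat.modEq_iff_dvd' (by omega : 1 ≤ q ^ 3 + 1)).1 h1.symm
      simpa using this
    have h5 := hp.dvd_of_dvd_pow h4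
    rw [hf] at h5
    exact hpr ((Nat.prime_dvd_prime_iff_eq hp hr.out).1 (hp.dvd_of_dvd_pow h5))
  have hUc : Nat.card ((fun P : Sylow r T => (P : Subgroup T)) a) = q ^ 3 := hPc a
  have hlt : Nat.card (HKS.Dab T a b) < Nat.card (a : Subgroup T) :=
    HKS.card_Dab_lt hSS hba (by omega) hUc hF e
  have hcG := hSS.card_G hba
  rw [hT, hN, Nat.add_sub_cancel] at hcG
  have hD : Nat.card (HKS.Dab T a b) = E := by
    have h1 : q ^ 3 * (q ^ 3 + 1) * Nat.card (HKS.Dab T a b) = q ^ 3 * (q ^ 3 + 1) * E := by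
      rw [mul_assoc (q ^ 3) _ E, hcG]; ring
    exact Nat.eq_of_mul_eq_mul_left (by positivity) h1
  have hrq : r ≠ 2 := by
    rintro rfl
    have hf0 : f ≠ 0 := by
      rintro rfl
      rw [pow_zero] at hf; omega
    rw [hf] at hodd
    exact absurd (hodd) (by rw [Nat.not_odd_iff_even]; exact (Nat.even_pow.2 ⟨even_two, hf0⟩))
  have hTU := HKS.EndU.tu_of_iso hSS hba hF hodd e (p := r) (k := f * 3) hr.out hrq
    (by
      intro h0
      have : f = 0 := by omega
      rw [this, pow_zero] at hf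
      omega)
    (by rw [pow_mul, ← hf]; exact hPc a)
    (by rw [hD]; exact fun h => hpE (h.mul_left _)) hlt
  have hzD : z ∈ HKS.Dab T a b := ⟨hza, hzb⟩
  have hle : R ≤ (a : Subgroup T) ⊓ Subgroup.centralizer ((a : Subgroup T) : Set T) := by
    intro u hu
    refine ⟨ha hu, ?_⟩
    rcases hTU.free z hzD u (ha hu) (hRz u hu) with h1 | h1
    · exact absurd h1 hz1
    · exact Subgroup.mem_centralizer_iff.2 (fun v hv => (h1 v hv).symm)
  calc Nat.card R ≤ Nat.card ((a : Subgroup T) ⊓
        Subgroup.centralizer ((a : Subgroup T) : Set T) : Subgroup T) :=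
        Nat.le_of_dvd Nat.card_pos (Subgroup.card_dvd_of_le hle)
    _ = q := hTU.cardZ

/-- The class of `z` has length divisible by `q²`. -/
theorem sq_dvd_class (hF : Fintype.card F = q ^ 2) (hq : 3 ≤ q) (hodd : Odd q)
    (e : T ≃* Cfsg.PSU 3 F q) {p : ℕ} (hp : p.Prime) (hpr : p ≠ r) {z : T} (hz : orderOf z = p) :
    q ^ 2 ∣ Nat.card {x : T // IsConj z x} := by
  classical
  obtain ⟨f, E, hf, hE0, hEQ, hpE, hT⟩ := H488.PsuTwo.exists_num (p := r) hF (by omega) e
  rw [← Characters.CentralCharacter.index_centralizer_eq_card]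
  obtain ⟨Q⟩ : Nonempty (Sylow r (Subgroup.centralizer ({z} : Set T))) := inferInstance
  have h1 : Nat.card (Q : Subgroup (Subgroup.centralizer ({z} : Set T))) ≤ q := by
    have h2 : IsPGroup r ((Q : Subgroup (Subgroup.centralizer ({z} : Set T))).map
        (Subgroup.centralizer ({z} : Set T)).subtype) := Q.isPGroup'.map _
    have h3 := card_le_of_commute (r := r) hF hq hodd e hp hpr hz h2 (by
      rintro _ ⟨x, -, rfl⟩
      exact (Subgroup.mem_centralizer_singleton_iff.1 x.2).symm)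
    rwa [Nat.card_congr (Subgroup.equivMapOfInjective _ _
      (Subgroup.subtype_injective _)).toEquiv.symm] at h3
  rw [Q.card_eq_multiplicity] at h1
  have h4 := Subgroup.card_mul_index (Subgroup.centralizer ({z} : Set T))
  have h5 : (Nat.card (Subgroup.centralizer ({z} : Set T))).factorization r ≤ f := by
    rw [hf] at h1
    exact (Nat.pow_le_pow_iff_right hr.out.one_lt).1 h1
  have h6 : (Nat.card T).factorization r = 3 * f := by
    rw [hT, Nat.factorization_mul, hf, ← pow_mul, Finsupp.coe_add, Pi.add_apply,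
      Nat.Prime.factorization_pow hr.out, Finsupp.single_eq_same,
      Nat.factorization_eq_zero_of_not_dvd, add_zero, mul_comm]
    · rw [pow_mul, ← hf]; exact hpE
    · rw [hf]
      exact pow_ne_zero _ (pow_ne_zero _ hr.out.ne_zero)
    · intro h
      apply hpE
      rw [h]
      exact dvd_zero _
  rw [← h4, Nat.factorization_mul Nat.card_pos.ne' Subgroup.index_ne_zero_of_finite,
    Finsupp.coe_add, Pi.add_apply] at h6
  rw [hf, ← pow_mul, hr.out.pow_dvd_iff_le_factorization Subgroup.index_ne_zero_of_finite]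
  omega

/-- `q² - q + 1` has a prime divisor `≥ 5`. -/
theorem exists_prime_phi (q : ℕ) (hq : 3 ≤ q) : ∃ p : ℕ, p.Prime ∧ 5 ≤ p ∧ p ∣ q ^ 2 - q + 1 := by
  have hq2 : q ≤ q ^ 2 := Nat.le_self_pow (by norm_num) q
  have hval : q ^ 2 - q + 1 = q * (q - 1) + 1 := by
    rw [Nat.mul_sub, mul_one, ← pow_two]
  have h7 : 7 ≤ q * (q - 1) + 1 := by
    have : 3 * 2 ≤ q * (q - 1) := Nat.mul_le_mul hq (by omega)
    omega
  by_contra hcon
  push Not at hcon
  have hodd : ¬ 2 ∣ q * (q - 1) + 1 := by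
    intro h
    have h1 := Nat.even_mul_pred_self q
    rw [even_iff_two_dvd] at h1
    omega
  have h3 : ∀ p : ℕ, p.Prime → p ∣ q * (q - 1) + 1 → p = 3 := by
    intro p hp hd
    have h5 : p < 5 := by
      by_contra h
      exact hcon p hp (by omega) (hval ▸ hd)
    have h2 := hp.two_le
    interval_cases p
    · exact absurd hd hodd
    · rfl
    · exact absurd hp (by norm_num)
  have h9 : ¬ 9 ∣ q * (q - 1) + 1 := by
    intro h
    have h1 : (q * (q - 1) + 1) % 9 = 0 := Nat.mod_eq_zero_of_dvd h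
    obtain ⟨t, rfl⟩ : ∃ t, q = t + 1 := ⟨q - 1, by omega⟩
    rw [Nat.add_sub_cancel] at h1
    have h2 : t % 9 < 9 := Nat.mod_lt _ (by norm_num)
    rw [Nat.add_mod, Nat.mul_mod, Nat.add_mod t 1] at h1
    interval_cases (t % 9) <;> simp at h1
  have h10 := Nat.eq_prime_pow_of_unique_prime_dvd (n := q * (q - 1) + 1) (by omega) (p := 3)
    (fun {d} hd hdd => h3 d hd hdd)
  rcases Nat.lt_or_ge (q * (q - 1) + 1).primeFactorsList.length 2 with h11 | h11
  · have h12 : (3 : ℕ) ^ (q * (q - 1) + 1).primeFactorsList.length ≤ 3 ^ 1 :=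
      Nat.pow_le_pow_right (by norm_num) (by omega)
    omega
  · exact h9 (by
      rw [h10]
      exact (show (9 : ℕ) = 3 ^ 2 by norm_num) ▸ pow_dvd_pow 3 h11)

end PSU

/-- The row `PSU₃(q)`. -/
theorem noKW_psu_three {T : Type u} [Group T] [Finite T] [hs : IsSimpleGroup T] {F : Type}
    [Field F] [Fintype F] {q : ℕ} (hF : Fintype.card F = q ^ 2) (hq : 3 ≤ q)
    (e : T ≃* Cfsg.PSU 3 F q) : NoKW T := by
  classical
  intro H hHs hc ht hK _
  obtain ⟨r, hch⟩ := CharP.exists F
  have hr : Fact r.Prime := ⟨CharP.char_is_prime F r⟩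
  obtain ⟨f, E, hf, hE0, hEQ, hpE, hT⟩ := H488.PsuTwo.exists_num (p := r) hF (by omega) e
  have hti := H488.PsuTwo.ti (p := r) hF e
  obtain ⟨hPc, hN, hbot⟩ := H488.PsuTwo.card_sylow (p := r) hF (by omega) e hs
  have hcyc1 : ∀ p : ℕ, p.Prime → 5 ≤ p → p ∣ q ^ 2 - q + 1 → ¬ p ∣ Nat.card H := by
    intro p hp hp5 hd hpH
    have := Fact.mk hp
    exact ht ((hK p).eq_top_of_isCyclic hpH
      (sylow_congr e (fun Q => H724.UThree.cyc_sylow hF hp5 hd Q)))
  -- the characteristic does not divide the order of `H`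
  have hrH : ¬ r ∣ Nat.card H := by
    intro hrH
    obtain ⟨p, hp, hp5, hpd⟩ := exists_prime_phi q hq
    apply hcyc1 p hp hp5 hpd
    -- the Sylow `r`-subgroups of `T` correspond to those of `H`
    have hbij : Function.Bijective (fun P : Sylow r T => (hK r).syl P) := by
      constructor
      · intro P Q hPQ
        by_contra hne
        have h1 := hti P Q hne
        obtain ⟨y, hy⟩ := exists_prime_orderOf_dvd_card' (G := (H ⊓ P : Subgroup T)) r
          ((hK r).dvd_card_inf hrH P)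
        have hy1 : (y : T) ≠ 1 := by
          intro h
          have h2 : orderOf (y : T) = r := by rwa [Subgroup.orderOf_coe]
          rw [h, orderOf_one] at h2
          exact hr.out.one_lt.ne h2
        apply hy1
        have h3 : (⟨y, y.2.1⟩ : H) ∈ (((hK r).syl P : Sylow r H) : Subgroup H) := by
          rw [PSub.coe_syl]; exact y.2.2
        have h4 : (⟨y, y.2.1⟩ : H) ∈ (((hK r).syl Q : Sylow r H) : Subgroup H) := by
          have : (hK r).syl P = (hK r).syl Q := hPQ
          rwa [← this]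
        rw [PSub.coe_syl] at h4
        have h5 : (y : T) ∈ ((P : Subgroup T) ⊓ Q : Subgroup T) := ⟨y.2.2, h4⟩
        rw [h1] at h5
        exact h5
      · intro Q
        obtain ⟨R, hR⟩ := exists_sylow_subgroupOf_eq Q
        refine ⟨R, Sylow.ext ?_⟩
        change (((hK r).syl R : Sylow r H) : Subgroup H) = Q
        rw [PSub.coe_syl, hR]
    have h1 : Nat.card (Sylow r H) = q ^ 3 + 1 := by
      rw [← hN]; exact (Nat.card_congr (Equiv.ofBijective _ hbij)).symm
    obtain ⟨Q⟩ : Nonempty (Sylow r H) := inferInstance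
    have h2 : Nat.card (Sylow r H) ∣ Nat.card H :=
      (Sylow.card_eq_index_normalizer Q) ▸ Subgroup.index_dvd_card _
    rw [h1] at h2
    have h3 : q ^ 2 - q + 1 ∣ q ^ 3 + 1 := by
      refine ⟨q + 1, ?_⟩
      have hq2 : q ≤ q ^ 2 := Nat.le_self_pow (by norm_num) q
      obtain ⟨t, ht⟩ := Nat.exists_eq_add_of_le hq2
      rw [ht, Nat.add_sub_cancel_left]
      have h4 : q ^ 3 = q * (q + t) := by rw [← ht]; ring
      have h5 : q * q = q + t := by rw [← pow_two]; exact ht
      rw [h4]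
      nlinarith [h5]
    exact hpd.trans (h3.trans h2)
  -- so `q` is odd
  have h2H := Cfsg.Agent.H786.KW.even_card (L := H) hc
  have hodd : Odd q := by
    have hr2 : r ≠ 2 := fun h => hrH (h ▸ h2H)
    rw [hf]
    exact (hr.out.odd_of_ne_two hr2).pow
  -- a prime `p ≥ 5` dividing `|H|`
  obtain ⟨p, hp, hp5, hpd⟩ := Cfsg.Agent.H786.KW.exists_prime_ge_five (L := H) hc
  have hfp := Fact.mk hp
  have hpr : p ≠ r := fun h => hrH (h ▸ hpd)
  have hpG := hpd.trans (Subgroup.card_subgroup_dvd_card H)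
  obtain ⟨t, rfl⟩ : ∃ t, q = t + 1 := ⟨q - 1, by omega⟩
  have hcard := HKS.EndOrd.card_psu_three (F := F) hF
  rw [← Nat.card_congr e.toEquiv] at hcard
  have hpq : ¬ p ∣ t + 1 := by
    intro h
    rw [hf] at h
    exact hpr ((Nat.prime_dvd_prime_iff_eq hp hr.out).1 (hp.dvd_of_dvd_pow h))
  have hphi : (t + 1) ^ 2 - (t + 1) + 1 = t ^ 2 + t + 1 := by
    have : (t + 1) ^ 2 = (t ^ 2 + t) + (t + 1) := by ring
    rw [this, Nat.add_sub_cancel]
  have hn1 : ¬ p ∣ t ^ 2 + t + 1 := fun h => hcyc1 p hp hp5 (hphi ▸ h) hpd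
  have hn2 : ¬ p ∣ t := by
    intro h
    exact ht ((hK p).eq_top_of_isCyclic hpd
      (sylow_congr e (fun Q => H398.FPR.PsuThree.cyclic_of_dvd_sub hF hq (by omega)
        (by rwa [Nat.add_sub_cancel]) Q)))
  have hg : ¬ p ∣ Nat.gcd 3 (t + 2) := fun h => by
    have h1 := Nat.le_of_dvd (by norm_num) (h.trans (Nat.gcd_dvd_left 3 (t + 2)))
    omega
  obtain ⟨P⟩ : Nonempty (Sylow p T) := inferInstance
  obtain ⟨z, hz⟩ := exists_prime_orderOf_dvd_card' (G := (H ⊓ P : Subgroup T)) p
    ((hK p).dvd_card_inf hpd P)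
  have hz' : orderOf (z : T) = p := by rwa [Subgroup.orderOf_coe]
  have hz1 : (z : T) ≠ 1 := by
    intro h
    rw [h, orderOf_one] at hz'
    exact hp.one_lt.ne hz'
  have hlt := (hK p).lt_card_sylow z.2.1 hz1 P z.2.2 (sq_dvd_class (r := r) hF hq hodd e hp hpr hz')
    (by
      rw [hf, ← pow_mul]
      exact Nat.Coprime.pow_left _ ((Nat.Prime.coprime_iff_not_dvd hr.out).2 hrH))
  -- the order of `P`
  have hfac : (Nat.card T).factorization p = 2 * (t + 2).factorization p := by
    have hT0 : Nat.card T ≠ 0 := Nat.card_pos.ne'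
    have ht0 : t ≠ 0 := by omega
    have h1 := congrArg (fun n : ℕ => n.factorization p) hcard
    beta_reduce at h1
    rw [Nat.factorization_mul (Nat.gcd_pos_of_pos_left _ (by norm_num)).ne' hT0,
      Nat.factorization_mul (by positivity) (by positivity),
      Nat.factorization_mul ht0 (by positivity),
      Nat.factorization_mul (by positivity) (by positivity)] at h1
    simp only [Finsupp.coe_add, Pi.add_apply, Nat.factorization_pow, Finsupp.coe_smul,
      Pi.smul_apply, smul_eq_mul] at h1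
    rw [Nat.factorization_eq_zero_of_not_dvd hg, Nat.factorization_eq_zero_of_not_dvd hpq,
      Nat.factorization_eq_zero_of_not_dvd hn2, Nat.factorization_eq_zero_of_not_dvd hn1] at h1
    omega
  rw [P.card_eq_multiplicity, hfac, mul_comm, pow_mul] at hlt
  have h2 : 2 * p ^ (t + 2).factorization p ∣ t + 2 := by
    apply Nat.Coprime.mul_dvd_of_dvd_of_dvd
    · exact Nat.Coprime.pow_right _ ((Nat.coprime_primes Nat.prime_two hp).2 (by omega))
    · obtain ⟨k, hk⟩ := hodd
      omega
    · exact Nat.ordProj_dvd _ _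
  have h3 := Nat.le_of_dvd (by omega) h2
  have h4 : p ^ (t + 2).factorization p < t + 1 := by omega
  have h5 : (p ^ (t + 2).factorization p) ^ 2 < (t + 1) ^ 2 :=
    Nat.pow_lt_pow_left h4 (by norm_num)
  omega

end Cfsg.Agent.H232.KW
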