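import Cfsg.Agent.H146.KW.Iface
import Cfsg.Agent.H146.KW.ToolsTwo
import Cfsg.Agent.H786.KW.Primes
import Cfsg.Agent.OddRank.SzTits
import Cfsg.Agent.S1156

/-!
# The rows `Sz(q)` and `²G₂(q)` of S4243
-/

set_option autoImplicit false
set_option linter.unusedSectionVars false

open Subgroup

namespace Cfsg.Agent.H232.KW

open Cfsg.Agent.H146.KW

universe u

/-- If the Sylow `p`-subgroups of the simple group `G` are cyclic for all primes `p ≥ 5` then there
is no Kegel-Wielandt subgroup. -/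
theorem noKW_of_cyclic {G : Type u} [Group G] [Finite G] [IsSimpleGroup G]
    (h : ∀ (p : ℕ) [Fact p.Prime], 5 ≤ p → p ∣ Nat.card G → ∀ P : Sylow p G, IsCyclic P) :
    NoKW G := by
  intro H hs hc ht hK _
  obtain ⟨p, hp, hp5, hpd⟩ := Cfsg.Agent.H786.KW.exists_prime_ge_five (L := H) hc
  have := Fact.mk hp
  exact ht ((hK p).eq_top_of_isCyclic hpd
    (h p hp5 (hpd.trans (Subgroup.card_subgroup_dvd_card H))))

theorem noKW_suzuki {G : Type u} [Group G] [Finite G] [IsSimpleGroup G]
    (h : Cfsg.Lie.IsoSuzuki G) : NoKW G :=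
  noKW_of_cyclic fun p _ hp5 _ P =>
    OddRank.SzTits.isCyclic_of_isPGroup h (by omega) P P.isPGroup'

theorem sylow_congr {G : Type*} {G' : Type*} [Group G] [Group G'] [Finite G] [Finite G'] {p : ℕ}
    [Fact p.Prime] (e : G ≃* G')
    (h : ∀ P : Sylow p G', IsCyclic (P : Subgroup G')) (P : Sylow p G) : IsCyclic (P : Subgroup G) := by
  have h1 : IsPGroup p ((P : Subgroup G).map e.toMonoidHom) := P.isPGroup'.map _
  obtain ⟨Q, hQ⟩ := h1.exists_le_sylow
  have := h Q
  let f : (P : Subgroup G) →* (Q : Subgroup G') :=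
    (e.toMonoidHom.comp (P : Subgroup G).subtype).codRestrict Q fun x => hQ ⟨x, x.2, rfl⟩
  have hf : Function.Injective f := by
    intro x y hxy
    exact Subtype.ext (e.injective (congrArg Subtype.val hxy))
  exact isCyclic_of_injective f hf

theorem noKW_ree {G : Type u} [Group G] [Finite G] [IsSimpleGroup G]
    (h : Cfsg.Lie.IsoRee G) : NoKW G := by
  obtain ⟨K, _, _, m, hm, hK, ⟨e⟩⟩ := h
  refine noKW_of_cyclic fun p _ hp5 _ P => ?_
  have : Finite ↥(Cfsg.Lie.twistedG2 K (3 ^ m)) := Finite.of_equiv G e.toEquiv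
  exact sylow_congr e (fun Q => Cfsg.Agent.S1156.result hm hK (by omega : 3 < p) Q) P

end Cfsg.Agent.H232.KW
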